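import Cfsg.Prelude.Def_SporadicB
import Cfsg.Agent.Dickson.Matrix

/-!
Orthogonal transvections over the field with two elements form a class of 3-transpositions.
-/

set_option autoImplicit false
set_option linter.unusedSectionVars false

namespace CfsgLib.FormTranspositions

open Module QuadraticMap CfsgLib.Dickson
open scoped Matrix

variable {V : Type*} [AddCommGroup V] [Module (ZMod 2) V] [FiniteDimensional (ZMod 2) V]
  {Q : QuadraticForm (ZMod 2) V}

theorem zmod_two_cases (a : ZMod 2) : a = 0 ∨ a = 1 := by revert a; decide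

theorem Q_add_self {x y : V} (hx : Q x = 1) (hy : Q y = 1) (h : polar Q x y = 1) : Q (x + y) = 1 := by
  rw [map_add_eq, hx, hy, h]; decide

theorem refl_congr {x y : V} (hx : Q x = 1) (hy : Q y = 1) (h : x = y) : refl x hx = refl y hy := by
  subst h; rfl

theorem refl_inv (x : V) (hx : Q x = 1) : (refl x hx : orth Q)⁻¹ = refl x hx :=
  inv_eq_of_mul_eq_one_right (refl_mul_self x hx)

theorem refl_conj_refl {x y : V} (hx : Q x = 1) (hy : Q y = 1) :
    refl x hx * refl y hy * refl x hx =
      (refl (Q := Q) (y + polar Q x y • x) (by rw [← refl_apply x hx y, (refl x hx).2, hy])) := by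
  conv_lhs => arg 2; rw [← refl_inv x hx]
  rw [conj_refl]
  rfl

theorem refl_sq_or_cube (x y : V) (hx : Q x = 1) (hy : Q y = 1) :
    (refl (Q := Q) x hx * refl y hy) ^ 2 = 1 ∨ (refl (Q := Q) x hx * refl y hy) ^ 3 = 1 := by
  have hxy := refl_conj_refl (Q := Q) hx hy
  have hyx := refl_conj_refl (Q := Q) hy hx
  rcases zmod_two_cases (polar Q x y) with h | h
  · left
    have e : refl x hx * refl y hy * refl x hx = refl (Q := Q) y hy :=
      hxy.trans (refl_congr _ _ (by rw [h, zero_smul, add_zero]))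
    calc (refl (Q := Q) x hx * refl y hy) ^ 2
        = (refl x hx * refl y hy * refl x hx) * refl y hy := by simp [pow_two, mul_assoc]
      _ = 1 := by rw [e, refl_mul_self]
  · right
    have e : refl x hx * refl y hy * refl x hx = refl (Q := Q) y hy * refl x hx * refl y hy := by
      rw [hxy, hyx]
      refine refl_congr _ _ ?_
      rw [polar_comm Q y x, h, one_smul, one_smul, add_comm]
    calc (refl (Q := Q) x hx * refl y hy) ^ 3
        = (refl x hx * refl y hy * refl x hx) * (refl y hy * refl x hx * refl y hy) := by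
          simp [pow_succ, mul_assoc]
      _ = 1 := by
          rw [e]
          simp only [mul_assoc]
          rw [← mul_assoc (refl y hy) (refl y hy), refl_mul_self, one_mul,
            ← mul_assoc (refl x hx) (refl x hx), refl_mul_self, one_mul, refl_mul_self]

theorem disp_refl (x : V) (hx : Q x = 1) (u : V) : disp (refl x hx) u = polar Q x u • x := by
  rw [disp_apply, refl_apply, add_comm u, add_assoc, Dickson.add_self (F := ZMod 2), add_zero]

theorem finrank_disp_refl (hQ : (polarBilin Q).Nondegenerate) (x : V) (hx : Q x = 1) :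
    finrank (ZMod 2) (LinearMap.range (disp (refl x hx : orth Q))) = 1 := by
  have hx0 : x ≠ 0 := fun h => by rw [h, QuadraticMap.map_zero] at hx; exact zero_ne_one hx
  have e : LinearMap.range (disp (refl x hx : orth Q)) = ZMod 2 ∙ x := by
    refine le_antisymm ?_ (Submodule.span_le.2 (Set.singleton_subset_iff.2 ?_))
    · rintro _ ⟨u, rfl⟩
      rw [disp_refl]
      exact Submodule.smul_mem _ _ (Submodule.mem_span_singleton_self x)
    · obtain ⟨u, hu⟩ : ∃ u, polar Q x u ≠ 0 := by
        by_contra h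
        push Not at h
        exact hx0 (hQ.1 x h)
      refine ⟨u, ?_⟩
      rw [disp_refl, (zmod_two_cases _).resolve_left hu, one_smul]
  rw [e, finrank_span_singleton hx0]

theorem exists_refl_of_finrank (hQ : (polarBilin Q).Nondegenerate) (g : orth Q)
    (h : finrank (ZMod 2) (LinearMap.range (disp g)) = 1) :
    ∃ x, ∃ hx : Q x = 1, g = refl x hx := by
  obtain ⟨⟨a, ha⟩, ha0, hspan⟩ := finrank_eq_one_iff'.1 h
  have hane : a ≠ 0 := fun e => ha0 (Subtype.ext e)
  have hdisp : ∀ v, disp g v = 0 ∨ disp g v = a := fun v => by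
    obtain ⟨c, hc⟩ := hspan ⟨disp g v, LinearMap.mem_range_self _ v⟩
    have hc' : c • a = disp g v := congrArg Subtype.val hc
    rcases zmod_two_cases c with rfl | rfl
    · exact Or.inl (by rw [← hc', zero_smul])
    · exact Or.inr (by rw [← hc', one_smul])
  obtain ⟨v, hv⟩ := LinearMap.mem_range.1 ha
  have hperp : ∀ u, disp g u = 0 → polar Q a u = 0 := fun u hu => by
    rw [← hv, polar_comm]; exact polar_disp_of_fixed g hu v
  have hav : polar Q a v = 1 := by
    refine (zmod_two_cases _).resolve_left fun h0 => hane (hQ.1 a fun u => ?_)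
    show polar Q a u = 0
    rcases hdisp u with hu | hu
    · exact hperp u hu
    · have := hperp (u + v) (by rw [map_add, hu, hv, Dickson.add_self (F := ZMod 2)])
      rwa [QuadraticMap.polar_add_right, h0, add_zero] at this
  have key : ∀ u, disp g u = polar Q a u • a := fun u => by
    rcases hdisp u with hu | hu
    · rw [hu, hperp u hu, zero_smul]
    · have := hperp (u + v) (by rw [map_add, hu, hv, Dickson.add_self (F := ZMod 2)])
      rw [QuadraticMap.polar_add_right, hav] at this
      rw [hu, (zmod_two_cases (polar Q a u)).resolve_left (fun e => by rw [e, zero_add] at this; exact one_ne_zero this),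
        one_smul]
  have hgv : (g : V ≃ₗ[ZMod 2] V) v = v + a := by
    rw [← hv, disp_apply, add_comm v, add_assoc, Dickson.add_self (F := ZMod 2), add_zero]
  have hQa : Q a = 1 := by
    have h1 := g.2 v
    rw [hgv, map_add_eq, polar_comm, hav, add_assoc, add_eq_left] at h1
    calc Q a = Q a + 1 + 1 := by rw [add_assoc]; simp [CharTwo.add_self_eq_zero]
      _ = 1 := by rw [h1, zero_add]
  refine ⟨a, hQa, Subtype.ext (LinearEquiv.ext fun u => ?_)⟩
  rw [refl_apply, ← key u, disp_apply, add_comm ((g : V ≃ₗ[ZMod 2] V) u), ← add_assoc,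
    Dickson.add_self (F := ZMod 2), zero_add]

theorem exists_linked (hQ : (polarBilin Q).Nondegenerate) (h5 : 5 ≤ finrank (ZMod 2) V) {x y : V}
    (hx : x ≠ 0) (hy : y ≠ 0) (hxy : x ≠ y) :
    ∃ z, Q z = 1 ∧ polar Q x z = 1 ∧ polar Q z y = 1 := by
  let f : V →ₗ[ZMod 2] ZMod 2 × ZMod 2 := (polarBilin Q x).prod (polarBilin Q y)
  have hf : Function.Surjective f := by
    rw [← LinearMap.range_eq_top, ← Submodule.dualAnnihilator_eq_bot_iff, eq_bot_iff]
    intro φ hφ
    rw [Submodule.mem_dualAnnihilator] at hφ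
    rw [Submodule.mem_bot]
    have hcomb : φ (1, 0) • x + φ (0, 1) • y = 0 := hQ.1 _ fun u => by
      have hu := hφ (f u) (LinearMap.mem_range_self f u)
      rw [show f u = (polar Q x u) • ((1 : ZMod 2), (0 : ZMod 2)) +
        (polar Q y u) • ((0 : ZMod 2), (1 : ZMod 2)) by simp [f]] at hu
      rw [map_add, map_smul, map_smul] at hu
      simp only [map_add, map_smul, LinearMap.add_apply, LinearMap.smul_apply, polarBilin_apply_apply,
        smul_eq_mul] at hu ⊢
      rw [mul_comm (φ (1, 0)), mul_comm (φ (0, 1))]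
      exact hu
    rcases zmod_two_cases (φ (1, 0)) with a | a <;> rcases zmod_two_cases (φ (0, 1)) with b | b <;>
      simp [a, b] at hcomb
    · refine LinearMap.ext fun p => ?_
      rw [show p = p.1 • ((1 : ZMod 2), (0 : ZMod 2)) + p.2 • ((0 : ZMod 2), (1 : ZMod 2)) by simp,
        map_add, map_smul, map_smul, a, b]
      simp
    · exact absurd hcomb hy
    · exact absurd hcomb hx
    · exact absurd ((Dickson.add_eq_zero_iff (F := ZMod 2)).1 hcomb) hxy
  by_contra hno
  push Not at hno
  obtain ⟨z, hz⟩ := hf (1, 1)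
  have hz1 : polar Q x z = 1 := congrArg Prod.fst hz
  have hz2 : polar Q y z = 1 := congrArg Prod.snd hz
  have hS : ∀ w ∈ LinearMap.ker f, Q w = polar Q z w := by
    intro w hw
    have hw1 : polar Q x w = 0 := congrArg Prod.fst hw
    have hw2 : polar Q y w = 0 := congrArg Prod.snd hw
    have e0 : Q z = 0 := (zmod_two_cases _).resolve_right fun h =>
      hno z h hz1 (by rw [polar_comm]; exact hz2)
    have e1 : Q (z + w) = 0 := (zmod_two_cases _).resolve_right fun h =>
      hno (z + w) h (by rw [polar_add_right, hz1, hw1, add_zero])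
        (by rw [polar_comm, polar_add_right, hz2, hw2, add_zero])
    rw [map_add_eq, e0, zero_add] at e1
    exact CharTwo.add_eq_zero.1 e1
  have horth : ∀ u ∈ LinearMap.ker f, ∀ w ∈ LinearMap.ker f, polar Q u w = 0 := by
    intro u hu w hw
    have := hS (u + w) (add_mem hu hw)
    rw [map_add_eq, hS u hu, hS w hw, polar_add_right] at this
    exact add_eq_left.1 this
  have hker : finrank (ZMod 2) (LinearMap.ker f) + 2 = finrank (ZMod 2) V := by
    have h := LinearMap.finrank_range_add_finrank_ker f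
    rw [LinearMap.range_eq_top.2 hf, finrank_top, Module.finrank_prod, Module.finrank_self] at h
    omega
  let g : V →ₗ[ZMod 2] Module.Dual (ZMod 2) ↥(LinearMap.ker f) :=
    (LinearMap.ker f).subtype.dualMap.comp (polarBilin Q)
  have hle : LinearMap.ker f ≤ LinearMap.ker g := fun u hu =>
    LinearMap.ext fun w => horth u hu w.1 w.2
  have hgsur : Function.Surjective g := by
    intro φ
    obtain ⟨ψ, hψ⟩ := LinearMap.exists_extend φ
    obtain ⟨k, hk⟩ := polar_surjective hQ ψ
    exact ⟨k, LinearMap.ext fun w => by rw [← hψ]; exact hk w.1⟩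
  have h2 := LinearMap.finrank_range_add_finrank_ker g
  rw [LinearMap.range_eq_top.2 hgsur, finrank_top, Subspace.dual_finrank_eq] at h2
  have h3 := Submodule.finrank_mono hle
  omega

theorem exists_move (hQ : (polarBilin Q).Nondegenerate) (h5 : 5 ≤ finrank (ZMod 2) V) {x y : V}
    (hx : Q x = 1) (hy : Q y = 1) : ∃ g : orth Q, (g : V ≃ₗ[ZMod 2] V) x = y := by
  have step : ∀ {x y : V}, Q x = 1 → Q y = 1 → polar Q x y = 1 →
      ∃ g : orth Q, (g : V ≃ₗ[ZMod 2] V) x = y := by
    intro x y hx hy h
    refine ⟨refl (x + y) (Q_add_self hx hy h), ?_⟩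
    rw [refl_apply, polar_add_left, polar_self_zero, zero_add, polar_comm, h, one_smul, ← add_assoc,
      Dickson.add_self (F := ZMod 2), zero_add]
  by_cases hxy : x = y
  · exact ⟨1, by rw [hxy]; rfl⟩
  · have hx0 : x ≠ 0 := fun e => by rw [e, QuadraticMap.map_zero] at hx; exact zero_ne_one hx
    have hy0 : y ≠ 0 := fun e => by rw [e, QuadraticMap.map_zero] at hy; exact zero_ne_one hy
    obtain ⟨z, hz, h1, h2⟩ := exists_linked hQ h5 hx0 hy0 hxy
    obtain ⟨g, hg⟩ := step hx hz h1
    obtain ⟨g', hg'⟩ := step hz hy h2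
    exact ⟨g' * g, by rw [Dickson.mul_apply, hg, hg']⟩

theorem exists_Q_one (hQ : (polarBilin Q).Nondegenerate) (h5 : 5 ≤ finrank (ZMod 2) V) :
    ∃ x, Q x = 1 := by
  have : Nontrivial V := Module.nontrivial_of_finrank_pos (R := ZMod 2) (by omega)
  obtain ⟨v, hv⟩ := exists_ne (0 : V)
  by_contra h
  push Not at h
  have h0 : ∀ u, Q u = 0 := fun u => (zmod_two_cases _).resolve_right (h u)
  exact hv (hQ.1 v fun u => by
    show polar Q v u = 0
    rw [polar, h0, h0, h0]; simp)

theorem orth_three_transposition_class (hQ : (polarBilin Q).Nondegenerate)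
    (h5 : 5 ≤ finrank (ZMod 2) V) :
    Cfsg.IsThreeTranspositionClass {g : orth Q | finrank (ZMod 2) (LinearMap.range (disp g)) = 1} := by
  have hD : {g : orth Q | finrank (ZMod 2) (LinearMap.range (disp g)) = 1} =
      {r | ∃ x, ∃ hx : Q x = 1, r = refl x hx} := by
    ext g
    exact ⟨exists_refl_of_finrank hQ g, by rintro ⟨x, hx, rfl⟩; exact finrank_disp_refl hQ x hx⟩
  obtain ⟨x₀, hx₀⟩ := exists_Q_one hQ h5
  refine ⟨⟨?_, ?_⟩, ⟨refl x₀ hx₀, finrank_disp_refl hQ x₀ hx₀, ?_⟩, ?_⟩
  · intro g hg
    obtain ⟨x, hx, rfl⟩ := exists_refl_of_finrank hQ g hg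
    refine orderOf_eq_prime (by rw [pow_two, refl_mul_self]) fun h => ?_
    have h1 := finrank_disp_refl hQ x hx
    rw [h, show disp (1 : orth Q) = 0 from LinearMap.ext fun v => Dickson.add_self (F := ZMod 2) v,
      LinearMap.range_zero, finrank_bot] at h1
    exact zero_ne_one h1
  · intro g hg h hh
    obtain ⟨x, hx, rfl⟩ := exists_refl_of_finrank hQ g hg
    obtain ⟨y, hy, rfl⟩ := exists_refl_of_finrank hQ h hh
    exact refl_sq_or_cube x y hx hy
  · rw [hD]
    ext g
    rw [show ∀ a b : orth Q, (b ∈ conjugatesOf a) = IsConj a b from fun _ _ => rfl, Set.mem_ofPred_eq,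
      isConj_iff]
    constructor
    · rintro ⟨y, hy, rfl⟩
      obtain ⟨c, hc⟩ := exists_move hQ h5 hx₀ hy
      exact ⟨c, by rw [conj_refl]; exact refl_congr _ _ hc⟩
    · rintro ⟨c, rfl⟩
      exact ⟨_, _, conj_refl c x₀ hx₀⟩
  · rw [hD]
    exact reflGroup_eq_top hQ h5

variable {ι : Type} [Fintype ι] [DecidableEq ι]

/-- Transport to matrix isometry groups. -/
theorem isometry_three_transposition_class (Q : QuadraticForm (ZMod 2) (ι → ZMod 2))
    (f : (ι → ZMod 2) → ZMod 2) (hf : ⇑Q = f) (hQ : (polarBilin Q).Nondegenerate)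
    (h5 : 5 ≤ Fintype.card ι) :
    Cfsg.IsThreeTranspositionClass {g : ↥(Cfsg.isometryGroup (ZMod 2) f) |
      (((g : GL ι (ZMod 2)) : Matrix ι ι (ZMod 2)) - 1).rank = 1} := by
  subst hf
  obtain ⟨⟨h2, h3⟩, ⟨d, hd, hcl⟩, hgen⟩ :=
    orth_three_transposition_class hQ (by rwa [Module.finrank_fintype_fun_eq_card])
  let e := toOrth Q
  set D := {g : orth Q | finrank (ZMod 2) (LinearMap.range (disp g)) = 1} with hDdef
  have hset : {g : ↥(Cfsg.isometryGroup (ZMod 2) ⇑Q) |
      (((g : GL ι (ZMod 2)) : Matrix ι ι (ZMod 2)) - 1).rank = 1} = e ⁻¹' D := by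
    ext g
    show _ = 1 ↔ finrank (ZMod 2) (LinearMap.range (disp (toOrth Q g))) = 1
    rw [rank_eq_finrank_disp]
  rw [hset]
  refine ⟨⟨fun g hg => by rw [← MulEquiv.orderOf_eq e]; exact h2 _ hg, fun g hg h hh => ?_⟩,
    ⟨e.symm d, by show e (e.symm d) ∈ D; rwa [MulEquiv.apply_symm_apply], ?_⟩, ?_⟩
  · rcases h3 _ hg _ hh with h' | h'
    · exact Or.inl (e.injective (by rw [map_pow, map_mul, h', map_one]))
    · exact Or.inr (e.injective (by rw [map_pow, map_mul, h', map_one]))
  · ext g
    rw [Set.mem_preimage, hcl]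
    show IsConj d (e g) ↔ IsConj (e.symm d) g
    constructor
    · intro h
      simpa using MonoidHom.map_isConj e.symm.toMonoidHom h
    · intro h
      simpa using MonoidHom.map_isConj e.toMonoidHom h
  · refine Subgroup.map_injective (f := e.toMonoidHom) e.injective ?_
    rw [MonoidHom.map_closure, show (e.toMonoidHom : _ → orth Q) '' (e ⁻¹' D) = D from
      Set.image_preimage_eq _ e.surjective, hgen, Subgroup.map_top_of_surjective _ e.surjective]

end CfsgLib.FormTranspositions
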