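import Cfsg.Prelude.Def_SporadicB
import Cfsg.Agent.Forms.UnitaryTransvections

/-!
Unitary transvections over the field with four elements form a class of 3-transpositions.
-/

set_option autoImplicit false

namespace CfsgLib.FormTranspositions

open Matrix CfsgLib.RepBounds.Unit

variable {F : Type*} [Field F] [Fintype F] (C : ConjField F)

theorem four_facts (hC : C.q = 2) : (∀ c ∈ C.skew, c ≠ 0 → c = 1) ∧
    (∀ a : F, a ≠ 0 → a * C.σ a = 1) ∧ (1 : F) + 1 = 0 ∧ (1 : F) ∈ C.skew := by
  have hcard : Fintype.card F = 4 := by rw [C.card, hC]; norm_num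
  have h4 : ((4 : ℕ) : F) = 0 := by rw [← hcard]; exact Nat.cast_card_eq_zero F
  have h2 : (1 : F) + 1 = 0 := by
    have : ((1 : F) + 1) * (1 + 1) = 0 := by rw [← h4]; push_cast; ring
    rcases mul_eq_zero.1 this with h | h <;> exact h
  refine ⟨fun c hc hc0 => ?_, fun a ha => ?_, h2, ?_⟩
  · rw [C.mem_skew, C.pow, hC] at hc
    have : c * (1 + c) = 0 := by rw [← hc]; ring
    rcases mul_eq_zero.1 this with h | h
    · exact absurd h hc0
    · linear_combination h - h2
  · rw [C.pow, hC, ← pow_succ' a 2]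
    have := FiniteField.pow_card_sub_one_eq_one a ha
    rwa [hcard] at this
  · rw [C.mem_skew, map_one]; exact h2

section

variable {ι : Type*} [Fintype ι] [DecidableEq ι]

theorem IsTransv.smul_vec {g : suG C ι} {v : ι → F} {c : F} (a : F) (h : IsTransv C g (a • v) c) :
    IsTransv C g v (a * C.σ a * c) := fun x => by
  rw [h x, herm_smul_right, smul_smul]; congr 2; ring

theorem transv_ne_one {g : suG C ι} {v : ι → F} {c : F} (h : IsTransv C g v c) (hv : v ≠ 0)
    (hc : c ≠ 0) : g ≠ 1 := fun e => by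
  obtain ⟨x, hx⟩ := exists_herm_eq C hv 1
  have := h x
  rw [e, app_one, hx, mul_one, left_eq_add, smul_eq_zero] at this
  exact this.elim hc hv

theorem transv_mul_self (hC : C.q = 2) {g : suG C ι} {v : ι → F} (h : IsTransv C g v 1)
    (hv : herm C v v = 0) : g * g = 1 := suG_ext C fun x => by
  rw [app_mul, app_one, h, h, herm_add_left, herm_smul_left, hv, mul_zero, add_zero, add_assoc,
    ← add_smul, one_mul, ← two_mul, ← one_add_one_eq_two, (four_facts C hC).2.2.1, zero_mul, zero_smul,
    add_zero]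

theorem transv_inv (hC : C.q = 2) {g : suG C ι} {v : ι → F} (h : IsTransv C g v 1)
    (hv : herm C v v = 0) : g⁻¹ = g := inv_eq_of_mul_eq_one_right (transv_mul_self C hC h hv)

theorem transv_sq_or_cube (hC : C.q = 2) {g g' : suG C ι} {u v : ι → F} (h : IsTransv C g u 1)
    (h' : IsTransv C g' v 1) (hu : herm C u u = 0) (hv : herm C v v = 0) :
    (g * g') ^ 2 = 1 ∨ (g * g') ^ 3 = 1 := by
  have gg := transv_mul_self C hC h hu
  have gg' := transv_mul_self C hC h' hv
  have e1 : IsTransv C (g * g' * g) (v + herm C v u • u) 1 := by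
    have := IsTransv.conj C h' g
    rwa [transv_inv C hC h hu, h v, one_mul] at this
  have e2 : IsTransv C (g' * g * g') (u + herm C u v • v) 1 := by
    have := IsTransv.conj C h g'
    rwa [transv_inv C hC h' hv, h' u, one_mul] at this
  by_cases hs : herm C v u = 0
  · left
    rw [hs, zero_smul, add_zero] at e1
    calc (g * g') ^ 2 = (g * g' * g) * g' := by simp [pow_two, mul_assoc]
      _ = 1 := by rw [IsTransv.unique C e1 h', gg']
  · right
    have hn := (four_facts C hC).2.1 (herm C v u) hs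
    have hn' : C.σ (herm C v u) * C.σ (C.σ (herm C v u)) = 1 := by rw [C.invol, mul_comm, hn]
    rw [← conj_herm C v u, show u + C.σ (herm C v u) • v =
      C.σ (herm C v u) • (v + herm C v u • u) by
        rw [smul_add, smul_smul, mul_comm (C.σ _), hn, one_smul, add_comm]] at e2
    have e3 := IsTransv.smul_vec C _ e2
    rw [hn', one_mul] at e3
    calc (g * g') ^ 3 = (g * g' * g) * (g' * g * g') := by simp [pow_succ, mul_assoc]
      _ = 1 := by
          rw [IsTransv.unique C e1 e3]
          simp only [mul_assoc]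
          rw [← mul_assoc g' g', gg', one_mul, ← mul_assoc g g, gg, one_mul, gg']

/-- A rank-one element is a transvection. -/
theorem exists_isTransv_of_rank_one (hC : C.q = 2) (g : suG C ι)
    (h : ((g.1 : Matrix ι ι F) - 1).rank = 1) :
    ∃ v, v ≠ 0 ∧ herm C v v = 0 ∧ IsTransv C g v 1 := by
  classical
  obtain ⟨⟨a, ha⟩, ha0, hspan⟩ := finrank_eq_one_iff'.1 h
  have hane : a ≠ 0 := fun e => ha0 (Subtype.ext e)
  obtain ⟨x₀, hx₀⟩ := LinearMap.mem_range.1 ha
  have hcoef : ∀ x, ∃ c : F, app C g x = x + c • a := fun x => by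
    obtain ⟨c, hc⟩ := hspan ⟨_, LinearMap.mem_range_self (((g.1 : Matrix ι ι F) - 1).mulVecLin) x⟩
    have hc' : c • a = ((g.1 : Matrix ι ι F) - 1) *ᵥ x := congrArg Subtype.val hc
    refine ⟨c, ?_⟩
    rw [hc', Matrix.sub_mulVec, Matrix.one_mulVec, add_sub_cancel]
    rfl
  choose φ hφ using hcoef
  have hx₁ : φ x₀ = 1 := by
    have := hφ x₀
    change g.1.1 *ᵥ x₀ = _ at this
    rw [Matrix.mulVecLin_apply, Matrix.sub_mulVec, Matrix.one_mulVec, this, add_sub_cancel_left] at hx₀
    exact smul_left_injective F hane (show φ x₀ • a = (1 : F) • a by rw [hx₀, one_smul])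
  have hrel : ∀ x y, φ x * herm C a y + C.σ (φ y) * herm C x a +
      φ x * C.σ (φ y) * herm C a a = 0 := fun x y => by
    have := herm_app C g x y
    rw [hφ, hφ, herm_add_left, herm_add_right, herm_add_right, herm_smul_left, herm_smul_left,
      herm_smul_right, herm_smul_right] at this
    linear_combination this
  set k := herm C x₀ a + herm C a a with hk
  have hall : ∀ y, herm C a y = -(C.σ (φ y) * k) := fun y => by
    have := hrel x₀ y
    rw [hx₁] at this
    linear_combination this
  have hk0 : k ≠ 0 := fun e => by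
    obtain ⟨y, hy⟩ := exists_herm_eq C hane 1
    have := congrArg C.σ (hall y)
    rw [conj_herm, hy, e, mul_zero, neg_zero, map_zero] at this
    exact one_ne_zero this
  set c := -(C.σ k)⁻¹ with hc
  have hσk : C.σ k ≠ 0 := (map_ne_zero C.σ).mpr hk0
  have hT : IsTransv C g a c := fun x => by
    rw [hφ x]
    congr 2
    have := congrArg C.σ (hall x)
    rw [conj_herm, map_neg, map_mul, C.invol] at this
    rw [this, hc]
    field_simp
  have hc0 : c ≠ 0 := by rw [hc]; exact neg_ne_zero.2 (inv_ne_zero hσk)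
  have hdet : c * herm C a a = 0 := by
    have e : g.1.1 = 1 + Matrix.replicateCol Unit (c • a) *
        Matrix.replicateRow Unit (fun i => C.σ (a i)) := by
      refine Matrix.ext_iff_mulVec.2 fun x => ?_
      rw [show g.1.1 *ᵥ x = app C g x from rfl, hT, Matrix.add_mulVec, Matrix.one_mulVec,
        ← Matrix.mulVec_mulVec]
      congr 1
      funext i
      simp [Matrix.mulVec, dotProduct, herm, mul_comm, mul_left_comm, Finset.mul_sum]
    have := g.1.2
    rw [e, Matrix.det_one_add_replicateCol_mul_replicateRow, add_eq_left] at this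
    rw [← this]
    simp only [dotProduct, herm, Finset.mul_sum, Pi.smul_apply, smul_eq_mul]
    exact Finset.sum_congr rfl fun _ _ => by ring
  have haa : herm C a a = 0 := (mul_eq_zero.1 hdet).resolve_left hc0
  have hskew : c ∈ C.skew := by
    refine skew_of_isometry C hane haa fun x y => ?_
    rw [← hT, ← hT, herm_app]
  exact ⟨a, hane, haa, (four_facts C hC).1 c hskew hc0 ▸ hT⟩

theorem rank_one_of_isTransv {g : suG C ι} {v : ι → F} (hv : v ≠ 0) (h : IsTransv C g v 1) :
    ((g.1 : Matrix ι ι F) - 1).rank = 1 := by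
  have e : LinearMap.range ((g.1 : Matrix ι ι F) - 1).mulVecLin = F ∙ v := by
    have hx : ∀ x, ((g.1 : Matrix ι ι F) - 1) *ᵥ x = herm C x v • v := fun x => by
      rw [Matrix.sub_mulVec, Matrix.one_mulVec, show g.1.1 *ᵥ x = app C g x from rfl, h,
        add_sub_cancel_left, one_mul]
    refine le_antisymm ?_ (Submodule.span_le.2 (Set.singleton_subset_iff.2 ?_))
    · rintro _ ⟨x, rfl⟩
      rw [Matrix.mulVecLin_apply, hx]
      exact Submodule.smul_mem _ _ (Submodule.mem_span_singleton_self v)
    · obtain ⟨x, hx'⟩ := exists_herm_eq C hv 1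
      exact ⟨x, by rw [Matrix.mulVecLin_apply, hx, hx', one_smul]⟩
  rw [Matrix.rank, e, finrank_span_singleton hv]

theorem exists_isotropic_linked {x y : ι → F} (hx : x ≠ 0) (hy : y ≠ 0) (hxx : herm C x x = 0)
    (hxy : herm C x y = 0) :
    ∃ z, herm C z z = 0 ∧ herm C z x ≠ 0 ∧ herm C z y ≠ 0 := by
  obtain ⟨u, hu1, hu2⟩ : ∃ u, herm C u x ≠ 0 ∧ herm C u y ≠ 0 := by
    obtain ⟨u, hu⟩ := exists_herm_eq C hx 1
    obtain ⟨w, hw⟩ := exists_herm_eq C hy 1
    by_cases h1 : herm C u y = 0
    · by_cases h2 : herm C w x = 0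
      · exact ⟨u + w, by rw [herm_add_left, hu, h2, add_zero]; exact one_ne_zero,
          by rw [herm_add_left, hw, h1, zero_add]; exact one_ne_zero⟩
      · exact ⟨w, h2, by rw [hw]; exact one_ne_zero⟩
    · exact ⟨u, by rw [hu]; exact one_ne_zero, h1⟩
  obtain ⟨t, ht⟩ := C.exists_trace_one
  have hσ : C.σ (herm C u x) ≠ 0 := (map_ne_zero C.σ).mpr hu1
  set α := -(herm C u u * t) / C.σ (herm C u x) with hα
  refine ⟨u + α • x, ?_, ?_, ?_⟩
  · rw [herm_add_left, herm_add_right, herm_add_right, herm_smul_left, herm_smul_left,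
      herm_smul_right, herm_smul_right, hxx, ← conj_herm C u x, hα, map_div₀, map_neg, map_mul,
      herm_self_fixed, C.invol]
    field_simp
    linear_combination (-(herm C u u) * herm C u x * C.σ (herm C u x)) * ht
  · rw [herm_add_left, herm_smul_left, hxx, mul_zero, add_zero]; exact hu1
  · rw [herm_add_left, herm_smul_left, hxy, mul_zero, add_zero]; exact hu2

theorem exists_scaled_move (hC : C.q = 2) {x y : ι → F} (hxx : herm C x x = 0) (hyy : herm C y y = 0)
    (hxy : herm C x y ≠ 0) : ∃ (k : suG C ι) (a : F), a ≠ 0 ∧ app C k x = a • y := by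
  have ha : (C.σ (herm C x y))⁻¹ ≠ 0 := inv_ne_zero ((map_ne_zero C.σ).mpr hxy)
  have h1 : herm C x ((C.σ (herm C x y))⁻¹ • y) = 1 := by
    rw [herm_smul_right, map_inv₀, C.invol, inv_mul_cancel₀ hxy]
  obtain ⟨t, -, ht⟩ := exists_move C (x := x) (y := (C.σ (herm C x y))⁻¹ • y) hxx
    (by rw [herm_smul_left, herm_smul_right, hyy, mul_zero, mul_zero])
    (by rw [h1]; exact (four_facts C hC).2.2.2) (by rw [h1]; exact one_ne_zero)
  exact ⟨t, _, ha, ht⟩

theorem exists_conj (hC : C.q = 2) {g g' : suG C ι} {x y : ι → F} (hg : IsTransv C g x 1)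
    (hg' : IsTransv C g' y 1) (hx : x ≠ 0) (hy : y ≠ 0) (hxx : herm C x x = 0)
    (hyy : herm C y y = 0) : IsConj g g' := by
  have step : ∀ {g g' : suG C ι} {x y : ι → F}, IsTransv C g x 1 → IsTransv C g' y 1 →
      herm C x x = 0 → herm C y y = 0 → herm C x y ≠ 0 → IsConj g g' := by
    intro g g' x y hg hg' hxx hyy hxy
    obtain ⟨k, a, ha, hk⟩ := exists_scaled_move C hC hxx hyy hxy
    have := IsTransv.conj C hg k
    rw [hk] at this
    have := IsTransv.smul_vec C a this
    rw [(four_facts C hC).2.1 a ha, one_mul] at this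
    exact isConj_iff.2 ⟨k, IsTransv.unique C this hg'⟩
  by_cases hxy : herm C x y = 0
  · obtain ⟨z, hzz, hzx, hzy⟩ := exists_isotropic_linked C hx hy hxx hxy
    have hz := isTransv_transvEl C z 1 hzz (four_facts C hC).2.2.2
    refine (step hg hz hxx hzz ?_).trans (step hz hg' hzz hyy hzy)
    rw [← conj_herm C z x]
    exact (map_ne_zero C.σ).mpr hzx
  · exact step hg hg' hxx hyy hxy

theorem unitary_three_transposition_class (hC : C.q = 2) (h4 : 4 ≤ Fintype.card ι) :
    Cfsg.IsThreeTranspositionClass {g : suG C ι | ((g.1 : Matrix ι ι F) - 1).rank = 1} := by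
  obtain ⟨i, j, hij⟩ := Fintype.one_lt_card_iff.1 (show 1 < Fintype.card ι by omega)
  obtain ⟨b, hb⟩ := C.exists_norm_neg_one
  set e : ι → F := Pi.single i 1 + Pi.single j b with he
  have he0 : e ≠ 0 := fun h => by simpa [he, hij] using congrFun h i
  have hee : herm C e e = 0 := by
    rw [he, herm_add_left, herm_add_right, herm_add_right]
    simp [herm, Pi.single_apply, hij, hb]
  have ht := isTransv_transvEl C e 1 hee (four_facts C hC).2.2.2
  refine ⟨⟨?_, ?_⟩, ⟨_, rank_one_of_isTransv C he0 ht, ?_⟩, ?_⟩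
  · intro g hg
    obtain ⟨v, hv, hvv, h⟩ := exists_isTransv_of_rank_one C hC g hg
    exact orderOf_eq_prime (by rw [pow_two, transv_mul_self C hC h hvv])
      (transv_ne_one C h hv one_ne_zero)
  · intro g hg g' hg'
    obtain ⟨u, -, huu, h⟩ := exists_isTransv_of_rank_one C hC g hg
    obtain ⟨v, -, hvv, h'⟩ := exists_isTransv_of_rank_one C hC g' hg'
    exact transv_sq_or_cube C hC h h' huu hvv
  · ext g
    show _ ↔ IsConj _ g
    constructor
    · intro hg
      obtain ⟨v, hv, hvv, h⟩ := exists_isTransv_of_rank_one C hC g hg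
      exact exists_conj C hC ht h he0 hv hee hvv
    · intro hg
      obtain ⟨k, rfl⟩ := isConj_iff.1 hg
      exact rank_one_of_isTransv C (fun h => he0 (by
        rw [← app_inv_app C k e, h]; exact Matrix.mulVec_zero _)) (IsTransv.conj C ht k)
  · have h3 : ¬ (Fintype.card ι = 3 ∧ C.q = 2) := fun h => by omega
    rw [eq_top_iff, ← transvs_eq_top C h3, transvs, Subgroup.closure_le]
    rintro g ⟨v, c, hvv, hc, h⟩
    by_cases hz : v = 0 ∨ c = 0
    · have : g = 1 := suG_ext C fun x => by
        rw [app_one, h]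
        rcases hz with rfl | rfl <;> simp
      rw [this]; exact one_mem _
    · push Not at hz
      exact Subgroup.subset_closure
        (rank_one_of_isTransv C hz.1 ((four_facts C hC).1 c hc hz.2 ▸ h))

end

end CfsgLib.FormTranspositions
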